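import Groth.Agent.Lib.CurveBase26.GenPts

/-!
# Differences of general effective divisors
-/

set_option autoImplicit false
set_option linter.style.haveILetI false
set_option backward.isDefEq.respectTransparency false
set_option maxHeartbeats 1600000
set_option synthInstance.maxHeartbeats 200000

universe u

open CategoryTheory CategoryTheory.Limits AlgebraicGeometry TopologicalSpace WithZero
open GrothLib.CurveRR (place oD)

noncomputable section

namespace GrothLib.CurveBase26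

variable (k : Type u) [Field k] {X : Scheme.{u}} [IsIntegral X] [CurveRR.RegCurve X]
  [X.Over (Spec (CommRingCat.of k))] [IsProper (X ↘ Spec (CommRingCat.of k))]

/-- The function on `U₀` of an element of `L E`, for `E` trivial on `U₀`. -/
def secE (E : FunFld.Divisor k X.functionField) {U₀ : X.Opens} (hη : genericPoint X ∈ U₀)
    (hE : ∀ z : CurveRR.CP X, z.1 ∈ U₀ → E (place k z) = 0) (f : _root_.FunFld.L E) : Γ(X, U₀) :=
  (CurveRR.exists_section_of_regular k hη (f.1 : X.functionField)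
    (fun z hz => (f.2 (place k z)).trans_eq (by rw [hE z hz]; simp))).choose

theorem germ_secE (E : FunFld.Divisor k X.functionField) {U₀ : X.Opens} (hη : genericPoint X ∈ U₀)
    (hE : ∀ z : CurveRR.CP X, z.1 ∈ U₀ → E (place k z) = 0) (f : _root_.FunFld.L E) :
    X.presheaf.germ U₀ _ hη (secE k E hη hE f) = f.1 :=
  (CurveRR.exists_section_of_regular k hη (f.1 : X.functionField)
    (fun z hz => (f.2 (place k z)).trans_eq (by rw [hE z hz]; simp))).choose_spec

/-- Evaluation at a point of `U₀` on `L E`. -/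
def evE (E : FunFld.Divisor k X.functionField) {U₀ : X.Opens} (hη : genericPoint X ∈ U₀)
    (hE : ∀ z : CurveRR.CP X, z.1 ∈ U₀ → E (place k z) = 0) (σ : Spec (CommRingCat.of k) ⟶ X)
    (hσ : σ ≫ (X ↘ Spec (CommRingCat.of k)) = 𝟙 _) (h : ∀ p, σ p ∈ U₀) : _root_.FunFld.L E →ₗ[k] k where
  toFun f := eA σ U₀ h (secE k E hη hE f)
  map_add' f g := by
    haveI : Nonempty U₀ := ⟨⟨_, hη⟩⟩
    rw [← map_add]
    refine congrArg _ (germ_injective_of_isIntegral X (genericPoint X) hη ?_)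
    rw [map_add, germ_secE, germ_secE, germ_secE]
    rfl
  map_smul' c f := by
    haveI : Nonempty U₀ := ⟨⟨_, hη⟩⟩
    have h1 : secE k E hη hE (c • f) = cU k U₀ c * secE k E hη hE f := by
      refine germ_injective_of_isIntegral X (genericPoint X) hη ?_
      rw [map_mul, germ_secE, germ_secE]
      rw [show (↑(c • f) : X.functionField) = algebraMap k X.functionField c * f.1 from Algebra.smul_def c f.1]
      refine congrArg₂ (· * ·) ?_ rfl
      exact (CurveRR.germ_toGlobal k c).symm.trans (TopCat.Presheaf.germ_res_apply X.presheaf _ _ hη _).symm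
    rw [h1, map_mul, eA_cU k U₀ σ hσ h]
    rfl

theorem evE_eq_zero_iff (E : FunFld.Divisor k X.functionField) {U₀ : X.Opens} (hη : genericPoint X ∈ U₀)
    (hE : ∀ z : CurveRR.CP X, z.1 ∈ U₀ → E (place k z) = 0) (σ : Spec (CommRingCat.of k) ⟶ X)
    (hσ : σ ≫ (X ↘ Spec (CommRingCat.of k)) = 𝟙 _) (h : ∀ p, σ p ∈ U₀) (P : CurveRR.CP X)
    (hP : ∀ p, σ p = P.1) (f : _root_.FunFld.L E) (hf0 : f.1 ≠ 0) :
    evE k E hη hE σ hσ h f = 0 ↔ 1 ≤ (place k P).ord f.1 := by
  have hPU : P.1 ∈ U₀ := hP (IsLocalRing.closedPoint k) ▸ h _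
  have h3 : (place k P).1 f.1 < 1 ↔ P.1 ∉ X.basicOpen (secE k E hη hE f) := by
    rw [← germ_secE k E hη hE f, CurveRR.germ_generic hPU, CurveRR.place_lt_one_iff, IsLocalRing.mem_maximalIdeal,
      mem_nonunits_iff, Scheme.mem_basicOpen _ _ _ hPU]
  rw [show evE k E hη hE σ hσ h f = eA σ U₀ h (secE k E hη hE f) from rfl, eA_eq_zero,
    show σ (IsLocalRing.closedPoint k) = P.1 from hP _, ← h3, FunFld.val_eq _ hf0, ← exp_zero, exp_lt_exp]
  omega

omit [CurveRR.RegCurve X] [IsProper (X ↘ Spec (CommRingCat.of k))] in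
theorem ell_sub_single_lt [IsAlgClosed k] (hK : _root_.FunFld.IsFunctionField k X.functionField)
    (E : FunFld.Divisor k X.functionField) (hE : 2 * (_root_.FunFld.genus k X.functionField : ℤ) ≤ FunFld.Divisor.deg E)
    (R : FunFld.Place k X.functionField) :
    _root_.FunFld.ell (E - Finsupp.single R 1) < _root_.FunFld.ell E := by
  have h1 := FunFld.ell_eq_of_deg_ge hK (D := E) (by omega)
  have h2 := FunFld.ell_eq_of_deg_ge hK (D := E - Finsupp.single R 1) (by
    rw [FunFld.deg_sub, FunFld.deg_single, FunFld.IsFG.deg_eq_one hK.1 R]; omega)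
  rw [FunFld.deg_sub, FunFld.deg_single, FunFld.IsFG.deg_eq_one hK.1 R] at h2
  omega

/-- For general `D`, `D'` the class `A + D - D'` is not effective. -/
theorem exists_open_diff [IsAlgClosed k] (hK : _root_.FunFld.IsFunctionField k X.functionField)
    (A N : FunFld.Divisor k X.functionField) {m r : ℕ} (ι₁ ι₂ : Fin r → Fin m)
    (hι₁ : Function.Injective ι₁) (hι₂ : Function.Injective ι₂) (hdisj : ∀ i j, ι₁ i ≠ ι₂ j)
    (hN : 2 * (_root_.FunFld.genus k X.functionField : ℤ) + r ≤ FunFld.Divisor.deg N)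
    (hAN : (r : ℤ) + _root_.FunFld.genus k X.functionField ≤ FunFld.Divisor.deg A + FunFld.Divisor.deg N)
    (hA : ∀ D : FunFld.Divisor k X.functionField, FunFld.Divisor.deg D = r → _root_.FunFld.ell (A + D) ≤ r) :
    ∃ U : (SymProd.fibPow (X ↘ Spec (CommRingCat.of k)) m).Opens,
      (U : Set ↥(SymProd.fibPow (X ↘ Spec (CommRingCat.of k)) m)).Nonempty ∧
      ∀ (x : Spec (CommRingCat.of k) ⟶ SymProd.fibPow (X ↘ Spec (CommRingCat.of k)) m)
        (_ : x ≫ WidePullback.base (fun _ : Fin m => (X ↘ Spec (CommRingCat.of k))) = 𝟙 _)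
        (_ : ∀ p, x p ∈ U) (P : Fin m → CurveRR.CP X)
        (_ : ∀ i p, (x ≫ WidePullback.π (fun _ : Fin m => (X ↘ Spec (CommRingCat.of k))) i) p = (P i).1),
        _root_.FunFld.ell (A + ∑ i : Fin r, Finsupp.single (place k (P (ι₁ i))) 1 -
          ∑ i : Fin r, Finsupp.single (place k (P (ι₂ i))) 1) = 0 := by
  classical
  haveI := Euler.isNoetherian_of_proper (X := X) k
  have hfg := CurveRR.isFG k (X := X)
  have hsub : Subsingleton ↥(Spec (CommRingCat.of k)) := inferInstanceAs (Subsingleton (PrimeSpectrum k))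
  let π := fun i : Fin m => WidePullback.π (fun _ : Fin m => (X ↘ Spec (CommRingCat.of k))) i
  set S₀ : Set (CurveRR.CP X) := {z | A (place k z) ≠ 0} ∪ {z | N (place k z) ≠ 0} with hS₀d
  have hS₀ : S₀.Finite := ((CurveRR.finite_bad k A 1).subset fun z hz => Or.inl hz).union
    ((CurveRR.finite_bad k N 1).subset fun z hz => Or.inl hz)
  obtain ⟨U₀, hU₀⟩ := CurveRR.exists_open_avoiding hS₀
  have hη : genericPoint X ∈ U₀ := (hU₀ _).2 fun z _ => z.2
  haveI : Nonempty U₀ := ⟨⟨_, hη⟩⟩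
  have hA0 : ∀ z : CurveRR.CP X, z.1 ∈ U₀ → A (place k z) = 0 := fun z hz => by
    by_contra hne
    exact (hU₀ z.1).1 hz z (Or.inl hne) rfl
  have hN0 : ∀ z : CurveRR.CP X, z.1 ∈ U₀ → N (place k z) = 0 := fun z hz => by
    by_contra hne
    exact (hU₀ z.1).1 hz z (Or.inr hne) rfl
  have hAN0 : ∀ z : CurveRR.CP X, z.1 ∈ U₀ → (A + N) (place k z) = 0 := fun z hz => by
    rw [Finsupp.add_apply, hA0 z hz, hN0 z hz, add_zero]
  haveI := FunFld.IsFG.finite_L hfg (A + N)
  have hNr : r ≤ _root_.FunFld.ell N := by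
    have := FunFld.ell_eq_of_deg_ge hK (D := N) (by omega)
    omega
  -- the reference configuration
  obtain ⟨U₁, ⟨x₁, hx₁, hx₁U⟩, hU₁⟩ := exists_open_indep' k N ι₁ hι₁ hNr hS₀
  have hdim : topologicalKrullDim X = 1 := CurveRR.RegCurve.dim
  choose P₁ hP₁ _ _ using fun i : Fin m => exists_point k hdim (x₁ ≫ π i)
    (by rw [Category.assoc, WidePullback.π_arrow]; exact hx₁)
  obtain ⟨hS₁, hinj₁, -⟩ := hU₁ x₁ hx₁ hx₁U P₁ hP₁
  set D₀ : FunFld.Divisor k X.functionField := ∑ i : Fin r, Finsupp.single (place k (P₁ (ι₁ i))) 1 with hD₀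
  have hdegD : ∀ Q : Fin r → CurveRR.CP X,
      FunFld.Divisor.deg (∑ i : Fin r, (Finsupp.single (place k (Q i)) 1 : FunFld.Divisor k X.functionField)) = (r : ℤ) :=
    fun Q => by
      rw [FunFld.deg_sum]
      simp [FunFld.deg_single, FunFld.IsFG.deg_eq_one hfg]
  set r' := _root_.FunFld.ell (A + D₀) with hr'd
  have hr' : r' ≤ r := hA D₀ (hdegD _)
  obtain ⟨U₂, ⟨x₂, hx₂, hx₂U⟩, hU₂⟩ := exists_open_indep' k (A + D₀) (fun i : Fin r' => ι₂ (Fin.castLE hr' i))
    (fun i j h => Fin.castLE_injective hr' (hι₂ h)) le_rfl hS₀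
  choose P₂ hP₂ _ _ using fun i : Fin m => exists_point k hdim (x₂ ≫ π i)
    (by rw [Category.assoc, WidePullback.π_arrow]; exact hx₂)
  obtain ⟨hS₂, hinj₂, hell₂⟩ := hU₂ x₂ hx₂ hx₂U P₂ hP₂
  -- points
  let W₀ : (SymProd.fibPow (X ↘ Spec (CommRingCat.of k)) m).Opens :=
    ⟨⋂ i : Fin m, (π i) ⁻¹' (U₀ : Set X), isOpen_iInter_of_finite fun i => U₀.2.preimage (π i).continuous⟩
  have hW₀ : ∀ i, W₀ ≤ π i ⁻¹ᵁ U₀ := fun i p hp => Set.mem_iInter.1 hp i
  let J := {x : Spec (CommRingCat.of k) ⟶ SymProd.fibPow (X ↘ Spec (CommRingCat.of k)) m //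
    x ≫ WidePullback.base (fun _ : Fin m => (X ↘ Spec (CommRingCat.of k))) = 𝟙 _ ∧ ∀ p, x p ∈ W₀}
  let Ev : Γ(SymProd.fibPow (X ↘ Spec (CommRingCat.of k)) m, W₀) →+* (J → k) :=
    RingHom.pi fun x => eA x.1 W₀ x.2.2
  let Rg : Subring (J → k) := Ev.range
  have hov : ∀ (x : J) (i : Fin m), (x.1 ≫ π i) ≫ (X ↘ Spec (CommRingCat.of k)) = 𝟙 _ := fun x i => by
    rw [Category.assoc, WidePullback.π_arrow]; exact x.2.1
  let evN : J → Fin m → (_root_.FunFld.L N →ₗ[k] k) := fun x i =>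
    evE k N hη hN0 (x.1 ≫ π i) (hov x i) (fun p => hW₀ i (x.2.2 p))
  let evW : J → Fin m → (_root_.FunFld.L (A + N) →ₗ[k] k) := fun x i =>
    evE k (A + N) hη hAN0 (x.1 ≫ π i) (hov x i) (fun p => hW₀ i (x.2.2 p))
  have hevN : ∀ i f, (fun x => evN x i f) ∈ Rg := fun i f =>
    ⟨(π i).appLE U₀ W₀ (hW₀ i) (secE k N hη hN0 f), funext fun x =>
      eA_appLE x.1 (π i) W₀ U₀ (hW₀ i) x.2.2 (fun p => hW₀ i (x.2.2 p)) _⟩
  have hevW : ∀ i f, (fun x => evW x i f) ∈ Rg := fun i f =>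
    ⟨(π i).appLE U₀ W₀ (hW₀ i) (secE k (A + N) hη hAN0 f), funext fun x =>
      eA_appLE x.1 (π i) W₀ U₀ (hW₀ i) x.2.2 (fun p => hW₀ i (x.2.2 p)) _⟩
  -- interpolating functions
  haveI := FunFld.IsFG.finite_L hfg N
  have hF : ∀ i : Fin r, ∃ f : _root_.FunFld.L N, f.1 ≠ 0 ∧
      (∀ j, j ≠ i → 1 ≤ (place k (P₁ (ι₁ j))).ord f.1) ∧ ¬ 1 ≤ (place k (P₁ (ι₁ i))).ord f.1 := by
    intro i
    set E' := N - (D₀ - Finsupp.single (place k (P₁ (ι₁ i))) 1) with hE'
    have hlt := ell_sub_single_lt k hK E' (by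
      rw [hE', FunFld.deg_sub, FunFld.deg_sub, FunFld.deg_single, FunFld.IsFG.deg_eq_one hfg, hdegD]
      omega) (place k (P₁ (ι₁ i)))
    obtain ⟨f, hfE, hfn⟩ := SetLike.exists_of_lt (lt_of_le_of_ne (FunFld.L_mono (sub_le_self E'
      (Finsupp.single_nonneg.2 zero_le_one : 0 ≤ Finsupp.single (place k (P₁ (ι₁ i))) (1 : ℤ)))) fun heq => by
        unfold _root_.FunFld.ell at hlt
        rw [heq] at hlt
        exact lt_irrefl _ hlt)
    have hf0 : f ≠ 0 := fun h => hfn (h ▸ Submodule.zero_mem _)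
    have hD₀v : ∀ j, D₀ (place k (P₁ (ι₁ j))) = 1 := fun j => by
      rw [hD₀, Finsupp.finsetSum_apply, Finset.sum_eq_single j (fun l _ hl =>
        Finsupp.single_eq_of_ne fun h => hl (hinj₁ (CurveRR.place_injective (k := k) h).symm)) (by simp),
        Finsupp.single_eq_same]
    have hNv : ∀ j, N (place k (P₁ (ι₁ j))) = 0 := fun j => by
      by_contra hne
      exact hS₁ _ (Or.inr hne)
    have hfE' := (FunFld.mem_L_iff_ord hf0).1 hfE
    have hfN : f ∈ _root_.FunFld.L N := by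
      refine FunFld.L_mono (sub_le_self _ ?_) hfE
      rw [hD₀, ← Finset.sum_erase_eq_sub (Finset.mem_univ i)]
      exact Finset.sum_nonneg fun l _ => Finsupp.single_nonneg.2 zero_le_one
    refine ⟨⟨f, hfN⟩, hf0, fun j hj => ?_, fun h1 => hfn ((FunFld.mem_L_iff_ord hf0).2 fun R => ?_)⟩
    · have := hfE' (place k (P₁ (ι₁ j)))
      rw [hE', Finsupp.sub_apply, Finsupp.sub_apply, hD₀v, hNv,
        Finsupp.single_eq_of_ne fun h => hj (hinj₁ (CurveRR.place_injective (k := k) h))] at this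
      show 1 ≤ (place k (P₁ (ι₁ j))).ord f
      omega
    · have h2 := hfE' R
      rcases eq_or_ne R (place k (P₁ (ι₁ i))) with rfl | hne
      · change 1 ≤ (place k (P₁ (ι₁ i))).ord f at h1
        rw [hE', Finsupp.sub_apply, Finsupp.sub_apply, Finsupp.sub_apply, hD₀v, hNv, Finsupp.single_eq_same]
        omega
      · rw [Finsupp.sub_apply, Finsupp.single_eq_of_ne hne]
        omega
  choose F hF0 hFj hFi using hF
  haveI := FunFld.IsFG.finite_L hfg (N - D₀)
  have hDpos : 0 ≤ D₀ := Finset.sum_nonneg fun i _ => Finsupp.single_nonneg.2 zero_le_one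
  let bG := Module.finBasis k (_root_.FunFld.L (N - D₀))
  let G : Fin (Module.finrank k (_root_.FunFld.L (N - D₀))) → _root_.FunFld.L N := fun l =>
    Submodule.inclusion (FunFld.L_mono (sub_le_self N hDpos)) (bG l)
  let T : J → Matrix (Fin r) (Fin r) k := fun x i j => evN x (ι₁ i) (F j)
  let cf : J → Fin (Module.finrank k (_root_.FunFld.L (N - D₀))) → Fin r → k := fun x l =>
    (T x).adjugate.mulVec fun i => evN x (ι₁ i) (G l)
  let v : J → Fin (Module.finrank k (_root_.FunFld.L (N - D₀))) → _root_.FunFld.L N := fun x l =>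
    (T x).det • G l - ∑ j, cf x l j • F j
  let T' : Matrix (Fin r) (Fin r) Rg := fun i j => ⟨fun x => T x i j, hevN (ι₁ i) (F j)⟩
  have hT' : ∀ x : J, (((Pi.evalRingHom (fun _ : J => k) x).comp Rg.subtype).mapMatrix T') = T x := fun x => rfl
  have hdetR : (fun x => (T x).det) ∈ Rg := by
    have : (fun x => (T x).det) = (T'.det : J → k) := funext fun x => by
      rw [← hT' x, ← RingHom.map_det]; rfl
    rw [this]; exact T'.det.2
  have hcfR : ∀ l j, (fun x => cf x l j) ∈ Rg := fun l j => by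
    have : (fun x => cf x l j) = ∑ i, (T'.adjugate j i : J → k) * fun x => evN x (ι₁ i) (G l) := funext fun x => by
      simp only [cf, Matrix.mulVec, dotProduct, Finset.sum_apply, Pi.mul_apply]
      refine Finset.sum_congr rfl fun i _ => ?_
      rw [← hT' x, ← RingHom.map_adjugate]
      rfl
    rw [this]
    exact Rg.sum_mem fun i _ => Rg.mul_mem (T'.adjugate j i).2 (hevN _ _)
  have hv0 : ∀ x l i, evN x (ι₁ i) (v x l) = 0 := fun x l i => by
    have h1 := congrFun (Matrix.mulVec_mulVec (fun i => evN x (ι₁ i) (G l)) (T x) (T x).adjugate) i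
    rw [Matrix.mul_adjugate, Matrix.smul_mulVec, Matrix.one_mulVec] at h1
    simp only [v, map_sub, map_smul, map_sum, smul_eq_mul]
    rw [sub_eq_zero]
    refine h1.symm.trans ?_
    simp only [Matrix.mulVec, dotProduct, T, cf]
    exact Finset.sum_congr rfl fun j _ => mul_comm _ _
  have hconst : ∀ c : k, (fun _ : J => c) ∈ Rg := fun c =>
    ⟨(WidePullback.base (fun _ : Fin m => (X ↘ Spec (CommRingCat.of k)))).appLE ⊤ W₀ (fun p _ => trivial)
      ((Scheme.ΓSpecIso (CommRingCat.of k)).inv c), funext fun x => by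
      show eA x.1 W₀ x.2.2 _ = c
      rw [eA_appLE x.1 _ W₀ ⊤ _ x.2.2 (fun _ => trivial)]
      have h1 : ∀ (g : Spec (CommRingCat.of k) ⟶ Spec (CommRingCat.of k)), g = 𝟙 _ →
          eA g ⊤ (fun _ => trivial) ((Scheme.ΓSpecIso (CommRingCat.of k)).inv c) = c := by
        rintro _ rfl
        simp [eA, Scheme.Hom.appLE]
      exact h1 _ x.2.1⟩
  have hvR : ∀ (μ : _root_.FunFld.L N →ₗ[k] k) l, (fun x => μ (v x l)) ∈ Rg := fun μ l => by
    have : (fun x => μ (v x l)) = (fun x => (T x).det) * (fun _ : J => μ (G l)) -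
        ∑ j, (fun x => cf x l j) * fun _ : J => μ (F j) := funext fun x => by
      simp only [v, map_sub, map_smul, map_sum, smul_eq_mul, Pi.sub_apply, Pi.mul_apply, Finset.sum_apply]
    rw [this]
    exact Rg.sub_mem (Rg.mul_mem hdetR (hconst _)) (Rg.sum_mem fun j _ => Rg.mul_mem (hcfR l j) (hconst _))
  -- the linear systems
  let V := Fin (Module.finrank k (_root_.FunFld.L (N - D₀))) → _root_.FunFld.L (A + N)
  let Λ : J → V →ₗ[k] ((Fin (Module.finrank k (_root_.FunFld.L (N - D₀))) ×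
      Fin (Module.finrank k (_root_.FunFld.L (N - D₀))) → X.functionField) ×
      (Fin (Module.finrank k (_root_.FunFld.L (N - D₀))) × Fin r → k)) := fun x =>
    (LinearMap.pi fun lm =>
      (LinearMap.mulRight k (v x lm.2).1) ∘ₗ (_root_.FunFld.L (A + N)).subtype ∘ₗ LinearMap.proj lm.1 -
      (LinearMap.mulRight k (v x lm.1).1) ∘ₗ (_root_.FunFld.L (A + N)).subtype ∘ₗ LinearMap.proj lm.2).prod
    (LinearMap.pi fun lj => (evW x (ι₂ lj.2)) ∘ₗ LinearMap.proj lj.1)
  have hΛR : ∀ (φ : V) (ℓ : _ →ₗ[k] k), (fun x => ℓ (Λ x φ)) ∈ Rg := by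
    intro φ ℓ
    have hsplit : (fun x => ℓ (Λ x φ)) =
        (∑ lm, fun x => ℓ (Pi.single lm ((φ lm.1).1 * (v x lm.2).1 - (φ lm.2).1 * (v x lm.1).1), 0)) +
        ∑ lj, (fun x => evW x (ι₂ lj.2) (φ lj.1)) * fun _ => ℓ (0, Pi.single lj 1) := funext fun x => by
      simp only [Pi.add_apply, Finset.sum_apply, Pi.mul_apply]
      rw [← map_sum, show (∑ lj, evW x (ι₂ lj.2) (φ lj.1) * ℓ (0, Pi.single lj 1)) =
        ℓ (∑ lj, evW x (ι₂ lj.2) (φ lj.1) • (0, Pi.single lj 1)) by rw [map_sum]; simp only [map_smul, smul_eq_mul], ← map_add]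
      congr 1
      refine Prod.ext ?_ ?_
      · simp only [Prod.fst_add, Prod.fst_sum, Prod.smul_fst, smul_zero, Finset.sum_const_zero, add_zero]
        funext lm
        rw [Finset.sum_apply, Finset.sum_eq_single lm (fun b _ hb => Pi.single_eq_of_ne hb.symm _) (by simp),
          Pi.single_eq_same]
        rfl
      · simp only [Prod.snd_add, Prod.snd_sum, Prod.smul_snd, Finset.sum_const_zero, zero_add]
        funext lj
        rw [Finset.sum_apply, Finset.sum_eq_single lj (fun b _ hb => by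
          rw [Pi.smul_apply, Pi.single_eq_of_ne hb.symm, smul_zero]) (by simp),
          Pi.smul_apply, Pi.single_eq_same, smul_eq_mul, mul_one]
        rfl
    rw [hsplit]
    refine Rg.add_mem (Rg.sum_mem fun lm _ => ?_) (Rg.sum_mem fun lj _ => Rg.mul_mem (hevW _ _) (hconst _))
    let μ : _root_.FunFld.L (A + N) → _root_.FunFld.L N →ₗ[k] k := fun w =>
      ℓ ∘ₗ LinearMap.inl k _ _ ∘ₗ LinearMap.single k _ lm ∘ₗ (LinearMap.mulLeft k w.1) ∘ₗ (_root_.FunFld.L N).subtype
    have : (fun x => ℓ (Pi.single lm ((φ lm.1).1 * (v x lm.2).1 - (φ lm.2).1 * (v x lm.1).1), 0)) =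
        (fun x => μ (φ lm.1) (v x lm.2)) - fun x => μ (φ lm.2) (v x lm.1) := funext fun x => by
      simp only [Pi.sub_apply, μ, LinearMap.comp_apply, LinearMap.coe_single, LinearMap.inl_apply,
        LinearMap.mulLeft_apply, Submodule.coe_subtype]
      rw [← map_sub, Prod.mk_sub_mk, sub_zero, Pi.single_sub]
    rw [this]
    exact Rg.sub_mem (hvR _ _) (hvR _ _)
  -- openness
  let b := Module.finBasis k V
  let e₀ : Fin m → (Spec (CommRingCat.of k) ⟶ X) := fun i => if ∃ j, ι₁ j = i then x₁ ≫ π i else x₂ ≫ π i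
  let P₀ : Fin m → CurveRR.CP X := fun i => if ∃ j, ι₁ j = i then P₁ i else P₂ i
  have he₀ : ∀ i p, e₀ i p = (P₀ i).1 := fun i p => by
    simp only [e₀, P₀]
    split_ifs
    exacts [hP₁ i p, hP₂ i p]
  have hP₀S : ∀ i, P₀ i ∉ S₀ := fun i => by
    simp only [P₀]
    split_ifs
    exacts [hS₁ i, hS₂ i]
  have hP₀1 : ∀ j, P₀ (ι₁ j) = P₁ (ι₁ j) := fun j => if_pos ⟨j, rfl⟩
  have hP₀2 : ∀ j, P₀ (ι₂ j) = P₂ (ι₂ j) := fun j => if_neg fun ⟨l, hl⟩ => hdisj l j hl
  have hbase : ∀ i, e₀ i ≫ (X ↘ Spec (CommRingCat.of k)) = 𝟙 _ := fun i => by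
    simp only [e₀]
    split_ifs <;> rw [Category.assoc, WidePullback.π_arrow]
    exacts [hx₁, hx₂]
  let x₀ : J := ⟨WidePullback.lift (𝟙 _) e₀ hbase, WidePullback.lift_base _ _ _ _, fun p =>
    Set.mem_iInter.2 fun i => (show (WidePullback.lift (𝟙 _) e₀ hbase ≫ π i) p ∈ U₀ from by
      rw [show WidePullback.lift (𝟙 _) e₀ hbase ≫ π i = e₀ i from WidePullback.lift_π _ _ _ _ _, he₀]
      refine (hU₀ _).2 fun z hz hzi => ?_
      exact hP₀S i (Subtype.ext hzi ▸ hz))⟩
  have hx₀ : ∀ i p, (x₀.1 ≫ π i) p = (P₀ i).1 := fun i p => by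
    rw [show x₀.1 ≫ π i = e₀ i from WidePullback.lift_π _ _ _ _ _]; exact he₀ i p
  have hT₀ : (T x₀).det ≠ 0 := by
    rw [show T x₀ = Matrix.diagonal (fun i => T x₀ i i) from ?_, Matrix.det_diagonal]
    · refine Finset.prod_ne_zero_iff.2 fun i _ h0 => hFi i ?_
      refine (evE_eq_zero_iff k N hη hN0 _ (hov x₀ _) _ (P₁ (ι₁ i)) (fun p => ?_) _ (hF0 i)).1 h0
      rw [hx₀, hP₀1]
    · ext i j
      rcases eq_or_ne i j with rfl | hij
      · rw [Matrix.diagonal_apply_eq]
      · rw [Matrix.diagonal_apply_ne _ hij]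
        refine (evE_eq_zero_iff k N hη hN0 _ (hov x₀ _) _ (P₁ (ι₁ i)) (fun p => ?_) _ (hF0 j)).2 (hFj j i hij)
        rw [hx₀, hP₀1]
  have hD₀v : ∀ j, D₀ (place k (P₁ (ι₁ j))) = 1 := fun j => by
    rw [hD₀, Finsupp.finsetSum_apply, Finset.sum_eq_single j (fun l _ hl =>
      Finsupp.single_eq_of_ne fun h => hl (hinj₁ (CurveRR.place_injective (k := k) h).symm)) (by simp),
      Finsupp.single_eq_same]
  have hGne : ∀ l, (G l).1 ≠ 0 := fun l h => bG.ne_zero l (Subtype.ext h)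
  have hv₀ : ∀ l, v x₀ l = (T x₀).det • G l := fun l => by
    have hz : (fun i => evN x₀ (ι₁ i) (G l)) = 0 := funext fun i => by
      refine (evE_eq_zero_iff k N hη hN0 _ (hov x₀ _) _ (P₁ (ι₁ i)) (fun p => ?_) _ (hGne l)).2 ?_
      · rw [hx₀, hP₀1]
      have h1 := (FunFld.mem_L_iff_ord (hGne l)).1 (bG l).2 (place k (P₁ (ι₁ i)))
      have h2 : N (place k (P₁ (ι₁ i))) = 0 := by
        by_contra hne
        exact hS₁ _ (Or.inr hne)
      rw [Finsupp.sub_apply, hD₀v, h2] at h1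
      omega
    simp only [v, cf, hz, Matrix.mulVec_zero, Pi.zero_apply, zero_smul, Finset.sum_const_zero, sub_zero]
  have hinjΛ : LinearMap.ker (Λ x₀) = ⊥ := by
    rw [Submodule.eq_bot_iff]
    intro φ hφ
    obtain ⟨hφ1, hφ2⟩ := Prod.ext_iff.1 (LinearMap.mem_ker.1 hφ)
    have hcross : ∀ a c, (φ a).1 * (G c).1 = (φ c).1 * (G a).1 := fun a c => by
      have h1 : (φ a).1 * (v x₀ c).1 - (φ c).1 * (v x₀ a).1 = 0 := congrFun hφ1 (a, c)
      rw [hv₀, hv₀, Submodule.coe_smul, Submodule.coe_smul, mul_smul_comm, mul_smul_comm, ← smul_sub,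
        smul_eq_zero] at h1
      exact sub_eq_zero.1 (h1.resolve_left hT₀)
    by_contra hne
    obtain ⟨a, ha⟩ := Function.ne_iff.1 hne
    have ha0 : (φ a).1 ≠ 0 := fun h => ha (Subtype.ext h)
    have hall : ∀ c, (φ c).1 ≠ 0 := fun c h => by
      have := hcross a c
      rw [h, zero_mul] at this
      exact mul_ne_zero ha0 (hGne c) this
    set f : X.functionField := (φ a).1 / (G a).1 with hfd
    have hf0 : f ≠ 0 := div_ne_zero ha0 (hGne a)
    have hfm : ∀ c, (φ c).1 = f * (G c).1 := fun c => by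
      rw [hfd, div_mul_eq_mul_div, eq_div_iff (hGne a), hcross a c]
    set S' : FunFld.Divisor k X.functionField :=
      ∑ i : Fin r', Finsupp.single (place k (P₂ (ι₂ (Fin.castLE hr' i)))) 1 with hS'
    have hzero : _root_.FunFld.L (A + D₀ - S') = ⊥ := by
      haveI := FunFld.IsFG.finite_L hfg (A + D₀ - S')
      refine Submodule.finrank_eq_zero.1 ?_
      show _root_.FunFld.ell (A + D₀ - S') = 0
      rw [hell₂]; omega
    refine hf0 ((Submodule.eq_bot_iff _).1 hzero f ((FunFld.mem_L_iff_ord hf0).2 fun R => ?_))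
    obtain ⟨c, hc⟩ : ∃ c, R.ord (G c).1 + (N - D₀) R ≤ 0 := by
      by_contra hcon
      push Not at hcon
      have hlt := ell_sub_single_lt k hK (N - D₀) (by rw [FunFld.deg_sub, hdegD]; omega) R
      refine absurd hlt (not_lt.2 ?_)
      haveI := FunFld.IsFG.finite_L hfg (N - D₀ - Finsupp.single R 1)
      have key : ∀ c, (G c).1 ∈ _root_.FunFld.L (N - D₀ - Finsupp.single R 1) := fun c => by
        refine (FunFld.mem_L_iff_ord (hGne c)).2 fun Q => ?_
        rw [Finsupp.sub_apply]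
        rcases eq_or_ne Q R with rfl | hQ
        · rw [Finsupp.single_eq_same]
          have := hcon c
          change 0 ≤ Q.ord (G c).1 + _
          omega
        · rw [Finsupp.single_eq_of_ne hQ, sub_zero]
          exact (FunFld.mem_L_iff_ord (hGne c)).1 (bG c).2 Q
      have hle : (Submodule.span k (Set.range bG)).map (_root_.FunFld.L (N - D₀)).subtype ≤
          _root_.FunFld.L (N - D₀ - Finsupp.single R 1) := by
        rw [Submodule.map_span_le]
        rintro _ ⟨c, rfl⟩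
        exact key c
      exact Submodule.finrank_mono fun w hw => hle ⟨⟨w, hw⟩, by rw [bG.span_eq]; trivial, rfl⟩
    have hord : R.ord (φ c).1 = R.ord f + R.ord (G c).1 := by rw [hfm, FunFld.ord_mul R hf0 (hGne c)]
    have h1 := (FunFld.mem_L_iff_ord (hall c)).1 (φ c).2 R
    rw [Finsupp.add_apply] at h1
    rw [Finsupp.sub_apply] at hc
    rw [Finsupp.sub_apply, Finsupp.add_apply]
    by_cases hex : ∃ i : Fin r', R = place k (P₂ (ι₂ (Fin.castLE hr' i)))
    · obtain ⟨i, rfl⟩ := hex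
      have hS1 : S' (place k (P₂ (ι₂ (Fin.castLE hr' i)))) = 1 := by
        rw [hS', Finsupp.finsetSum_apply, Finset.sum_eq_single i (fun l _ hl =>
          Finsupp.single_eq_of_ne fun h => hl (hinj₂ (CurveRR.place_injective (k := k) h).symm)) (by simp),
          Finsupp.single_eq_same]
      have h2 : evW x₀ (ι₂ (Fin.castLE hr' i)) (φ c) = 0 := congrFun hφ2 (c, Fin.castLE hr' i)
      have h3 := (evE_eq_zero_iff k (A + N) hη hAN0 _ (hov x₀ _) _ (P₂ (ι₂ (Fin.castLE hr' i)))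
        (fun p => by rw [hx₀, hP₀2]) _ (hall c)).1 h2
      have h4 : A (place k (P₂ (ι₂ (Fin.castLE hr' i)))) = 0 := by
        by_contra hne
        exact hS₂ _ (Or.inl hne)
      have h5 : N (place k (P₂ (ι₂ (Fin.castLE hr' i)))) = 0 := by
        by_contra hne
        exact hS₂ _ (Or.inr hne)
      rw [hS1]
      omega
    · rw [show S' R = 0 by
        rw [hS', Finsupp.finsetSum_apply]
        exact Finset.sum_eq_zero fun i _ => Finsupp.single_eq_of_ne fun h => hex ⟨i, h⟩]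
      omega
  obtain ⟨L₀, hL₀⟩ := (Λ x₀).exists_leftInverse_of_injective hinjΛ
  let M : J → Matrix (Fin (Module.finrank k V)) (Fin (Module.finrank k V)) k := fun x =>
    LinearMap.toMatrix b b (L₀ ∘ₗ Λ x)
  have hMR : ∀ i j, (fun x => M x i j) ∈ Rg := fun i j => by
    simp only [M, LinearMap.toMatrix_apply, LinearMap.comp_apply]
    exact hΛR (b j) (b.coord i ∘ₗ L₀)
  let M' : Matrix (Fin (Module.finrank k V)) (Fin (Module.finrank k V)) Rg := fun i j => ⟨_, hMR i j⟩
  have hM' : ∀ x : J, (((Pi.evalRingHom (fun _ : J => k) x).comp Rg.subtype).mapMatrix M') = M x := fun x => rfl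
  obtain ⟨a, ha⟩ : (fun x => (M x).det * (T x).det) ∈ Rg := by
    have : (fun x => (M x).det) = (M'.det : J → k) := funext fun x => by
      rw [← hM' x, ← RingHom.map_det]; rfl
    exact Rg.mul_mem (this ▸ M'.det.2) hdetR
  refine ⟨(SymProd.fibPow (X ↘ Spec (CommRingCat.of k)) m).basicOpen a, ⟨x₀.1 (IsLocalRing.closedPoint k), ?_⟩,
    fun x hx hxU P hP => ?_⟩
  · refine not_not.1 fun hn => ?_
    have h1 := ((eA_eq_zero x₀.1 W₀ x₀.2.2 a).2 hn).symm.trans (congrFun ha x₀)
    rcases mul_eq_zero.1 h1.symm with h | h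
    · rw [show M x₀ = 1 by simp only [M, hL₀, LinearMap.toMatrix_id], Matrix.det_one] at h
      exact one_ne_zero h
    · exact hT₀ h
  have hW : ∀ p, x p ∈ W₀ := fun p =>
    (SymProd.fibPow (X ↘ Spec (CommRingCat.of k)) m).basicOpen_le _ (hxU p)
  let y : J := ⟨x, hx, hW⟩
  have hne : (M y).det * (T y).det ≠ 0 := fun h =>
    (eA_eq_zero x W₀ hW a).1 ((congrFun ha y).trans h) (hxU _)
  have hMne := (mul_ne_zero_iff.1 hne).1
  have hTne := (mul_ne_zero_iff.1 hne).2
  have hker : ∀ φ, Λ y φ = 0 → φ = 0 := fun φ hφ => by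
    have h1 := LinearMap.toMatrix_mulVec_repr b b (L₀ ∘ₗ Λ y) φ
    rw [LinearMap.comp_apply, hφ, map_zero, map_zero, Finsupp.coe_zero] at h1
    exact b.repr.injective (DFunLike.coe_injective ((Matrix.eq_zero_of_mulVec_eq_zero hMne h1).trans
      (by rw [map_zero, Finsupp.coe_zero])))
  have hPU : ∀ i, (P i).1 ∈ U₀ := fun i => hP i (IsLocalRing.closedPoint k) ▸ hW₀ i (hW _)
  have hPinj : Function.Injective fun i => P (ι₁ i) := fun i j hij => by
    by_contra hne'
    have hpt : x ≫ π (ι₁ i) = x ≫ π (ι₁ j) := AlgebraicGeometry.ext_of_apply_closedPoint_eq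
      (X ↘ Spec (CommRingCat.of k)) (hov y _) (hov y _)
      ((hP (ι₁ i) _).trans ((congrArg Subtype.val hij).trans (hP (ι₁ j) _).symm))
    refine hTne (Matrix.det_zero_of_row_eq hne' (funext fun l => ?_))
    simp only [T, evN]
    congr 2
  set D : FunFld.Divisor k X.functionField := ∑ i : Fin r, Finsupp.single (place k (P (ι₁ i))) 1 with hD
  set D' : FunFld.Divisor k X.functionField := ∑ i : Fin r, Finsupp.single (place k (P (ι₂ i))) 1 with hD'
  haveI := FunFld.IsFG.finite_L hfg (A + D - D')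
  refine Submodule.finrank_eq_zero.2 ((Submodule.eq_bot_iff _).2 fun f hf => ?_)
  by_contra hf0
  have hvD : ∀ l, ∀ R, (v y l).1 ≠ 0 → 0 ≤ R.ord (v y l).1 + (N R - D R) := fun l R hv => by
    have h1 := (FunFld.mem_L_iff_ord hv).1 (v y l).2 R
    by_cases hex : ∃ i, R = place k (P (ι₁ i))
    · obtain ⟨i, rfl⟩ := hex
      have h2 := (evE_eq_zero_iff k N hη hN0 _ (hov y _) _ (P (ι₁ i)) (fun p => hP (ι₁ i) p) _ hv).1 (hv0 y l i)
      rw [hN0 _ (hPU _), hD, Finsupp.finsetSum_apply, Finset.sum_eq_single i (fun l _ hl =>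
        Finsupp.single_eq_of_ne fun h => hl (hPinj (CurveRR.place_injective (k := k) h).symm)) (by simp),
        Finsupp.single_eq_same]
      omega
    · rw [show D R = 0 by
        rw [hD, Finsupp.finsetSum_apply]
        exact Finset.sum_eq_zero fun i _ => Finsupp.single_eq_of_ne fun h => hex ⟨i, h⟩]
      omega
  have hD'0 : 0 ≤ D' := Finset.sum_nonneg fun i _ => Finsupp.single_nonneg.2 zero_le_one
  have hprod : ∀ l, f * (v y l).1 ∈ _root_.FunFld.L (A + N - D') := fun l => by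
    rcases eq_or_ne (v y l).1 0 with hv | hv
    · rw [hv, mul_zero]; exact Submodule.zero_mem _
    refine (FunFld.mem_L_iff_ord (mul_ne_zero hf0 hv)).2 fun R => ?_
    have h1 := (FunFld.mem_L_iff_ord hf0).1 hf R
    have h2 := hvD l R hv
    rw [Finsupp.sub_apply, Finsupp.add_apply] at h1
    rw [FunFld.ord_mul R hf0 hv, Finsupp.sub_apply, Finsupp.add_apply]
    omega
  let φ₀ : V := fun l => ⟨f * (v y l).1, FunFld.L_mono (sub_le_self _ hD'0) (hprod l)⟩
  have hevD' : ∀ (w : _root_.FunFld.L (A + N)) j, w.1 ∈ _root_.FunFld.L (A + N - D') →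
      evW y (ι₂ j) w = 0 := fun w j hw => by
    rcases eq_or_ne w.1 0 with hw0 | hw0
    · rw [show w = 0 from Subtype.ext hw0, map_zero]
    refine (evE_eq_zero_iff k (A + N) hη hAN0 _ (hov y _) _ (P (ι₂ j)) (fun p => hP (ι₂ j) p) _ hw0).2 ?_
    have h1 := (FunFld.mem_L_iff_ord hw0).1 hw (place k (P (ι₂ j)))
    have h2 : 1 ≤ D' (place k (P (ι₂ j))) := by
      rw [hD', Finsupp.finsetSum_apply]
      refine le_of_eq_of_le ?_ (Finset.single_le_sum (fun l _ => ?_) (Finset.mem_univ j))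
      · rw [Finsupp.single_eq_same]
      · rw [Finsupp.single_apply]; split_ifs <;> norm_num
    rw [Finsupp.sub_apply, hAN0 _ (hPU _)] at h1
    omega
  have hφ₀ : φ₀ = 0 := hker φ₀ (Prod.ext (funext fun lm => by
      show f * (v y lm.1).1 * (v y lm.2).1 - f * (v y lm.2).1 * (v y lm.1).1 = 0
      ring) (funext fun lj => hevD' (φ₀ lj.1) lj.2 (hprod lj.1)))
  have hvz : ∀ l, (v y l).1 = 0 := fun l =>
    (mul_eq_zero.1 (congrArg Subtype.val (congrFun hφ₀ l))).resolve_left hf0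
  -- some section of `L (A + N)` vanishes at the second family
  obtain ⟨h, hh, hh0⟩ := Submodule.exists_mem_ne_zero_of_ne_bot
    (p := LinearMap.ker (LinearMap.pi fun j : Fin r => evW y (ι₂ j))) (by
      refine LinearMap.ker_ne_bot_of_finrank_lt ?_
      rw [Module.finrank_fin_fun]
      have h1 := FunFld.riemann_roch' hK (FunFld.exists_isCanonical hK).choose_spec (A + N)
      rw [FunFld.deg_add] at h1
      show r < _root_.FunFld.ell (A + N)
      omega)
  obtain ⟨l₀⟩ : Nonempty (Fin (Module.finrank k (_root_.FunFld.L (N - D₀)))) := by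
    rw [← Fin.pos_iff_nonempty]
    have h1 := FunFld.ell_eq_of_deg_ge hK (D := N - D₀) (by rw [FunFld.deg_sub, hdegD]; omega)
    rw [FunFld.deg_sub, hdegD] at h1
    show 0 < _root_.FunFld.ell (N - D₀)
    omega
  refine hh0 ?_
  have hs := congrFun (hker (Pi.single l₀ h) (Prod.ext (funext fun lm => by
      show ((Pi.single l₀ h : V) lm.1).1 * (v y lm.2).1 - ((Pi.single l₀ h : V) lm.2).1 * (v y lm.1).1 = 0
      rw [hvz, hvz, mul_zero, mul_zero, sub_zero]) (funext fun lj => by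
      show evW y (ι₂ lj.2) ((Pi.single l₀ h : V) lj.1) = 0
      rcases eq_or_ne lj.1 l₀ with e | e
      · rw [e, Pi.single_eq_same]; exact congrFun (LinearMap.mem_ker.1 hh) lj.2
      · rw [Pi.single_eq_of_ne e, map_zero]))) l₀
  rwa [Pi.single_eq_same] at hs

end GrothLib.CurveBase26
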