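import Groth.Agent.Lib.CurveBase26.Main
import Mathlib.AlgebraicGeometry.AlgClosed.Basic
import Groth.Prelude.Def_SymProd

/-!
# General points impose independent conditions on a linear system
-/

set_option autoImplicit false
set_option linter.style.haveILetI false
set_option backward.isDefEq.respectTransparency false
set_option maxHeartbeats 800000
set_option synthInstance.maxHeartbeats 200000

universe u

open CategoryTheory CategoryTheory.Limits AlgebraicGeometry TopologicalSpace WithZero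
open GrothLib.CurveRR (place oD)

noncomputable section

namespace GrothLib.CurveBase26

variable {k : Type u} [Field k]

/-- Evaluation at a rational point of a function regular on an open set containing it. -/
def eA {Y : Scheme.{u}} (y : Spec (CommRingCat.of k) ⟶ Y) (W : Y.Opens) (h : ∀ p, y p ∈ W) : Γ(Y, W) →+* k :=
  (Scheme.ΓSpecIso (CommRingCat.of k)).hom.hom.comp (y.appLE W ⊤ fun p _ => h p).hom

theorem eA_eq_zero {Y : Scheme.{u}} (y : Spec (CommRingCat.of k) ⟶ Y) (W : Y.Opens) (h : ∀ p, y p ∈ W)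
    (a : Γ(Y, W)) : eA y W h a = 0 ↔ y (IsLocalRing.closedPoint k) ∉ Y.basicOpen a := by
  have hb := Scheme.basicOpen_appLE y ⊤ W (fun p _ => h p) a
  rw [top_inf_eq] at hb
  set b := y.appLE W ⊤ (fun p _ => h p) a with hbdef
  have hinj : Function.Injective (Scheme.ΓSpecIso (CommRingCat.of k)).hom.hom :=
    ((Scheme.ΓSpecIso (CommRingCat.of k)).commRingCatIsoToRingEquiv).injective
  constructor
  · intro h0 hm
    have hb0 : b = 0 := hinj (h0.trans (map_zero _).symm)
    rw [hb0, Scheme.basicOpen_zero] at hb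
    exact (hb.symm ▸ (show IsLocalRing.closedPoint k ∈ y ⁻¹ᵁ Y.basicOpen a from hm) :
      IsLocalRing.closedPoint k ∈ (⊥ : (Spec (CommRingCat.of k)).Opens))
  · intro hm
    by_contra h0
    have hu : IsUnit b :=
      (isUnit_map_iff (Scheme.ΓSpecIso (CommRingCat.of k)).commRingCatIsoToRingEquiv b).1 (isUnit_iff_ne_zero.2 h0)
    rw [Scheme.basicOpen_of_isUnit _ hu] at hb
    exact hm (show IsLocalRing.closedPoint k ∈ y ⁻¹ᵁ Y.basicOpen a from hb ▸ trivial)

theorem eA_appLE {Y Z : Scheme.{u}} (x : Spec (CommRingCat.of k) ⟶ Y) (g : Y ⟶ Z) (W : Y.Opens) (V : Z.Opens)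
    (e : W ≤ g ⁻¹ᵁ V) (h : ∀ p, x p ∈ W) (h' : ∀ p, (x ≫ g) p ∈ V) (a : Γ(Z, V)) :
    eA x W h (g.appLE V W e a) = eA (x ≫ g) V h' a :=
  congrArg (Scheme.ΓSpecIso (CommRingCat.of k)).hom.hom
    (ConcreteCategory.congr_hom (Scheme.Hom.appLE_comp_appLE x g V W ⊤ e (fun p _ => h p)) a)

variable (k) {X : Scheme.{u}} [IsIntegral X] [CurveRR.RegCurve X]
  [X.Over (Spec (CommRingCat.of k))] [IsProper (X ↘ Spec (CommRingCat.of k))]

/-- Constants as functions on an open set. -/
def cU (U : X.Opens) : k →+* Γ(X, U) :=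
  (X.presheaf.map (homOfLE (le_top : U ≤ ⊤)).op).hom.comp (Coh.toGlobal (X ↘ Spec (CommRingCat.of k)))

omit [IsIntegral X] [CurveRR.RegCurve X] [IsProper (X ↘ Spec (CommRingCat.of k))] in
theorem eA_cU (U : X.Opens) (σ : Spec (CommRingCat.of k) ⟶ X)
    (hσ : σ ≫ (X ↘ Spec (CommRingCat.of k)) = 𝟙 _) (h : ∀ p, σ p ∈ U) (c : k) :
    eA σ U h (cU k U c) = c := by
  show ((Scheme.ΓSpecIso (CommRingCat.of k)).inv ≫ (X ↘ Spec (CommRingCat.of k)).appTop ≫
    X.presheaf.map (homOfLE (le_top : U ≤ ⊤)).op ≫ σ.appLE U ⊤ (fun p _ => h p) ≫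
    (Scheme.ΓSpecIso (CommRingCat.of k)).hom).hom c = c
  rw [Scheme.Hom.map_appLE_assoc, Scheme.Hom.appLE, ← Category.assoc ((X ↘ Spec (CommRingCat.of k)).appTop)]
  have h1 : (X ↘ Spec (CommRingCat.of k)).appTop ≫ σ.appTop = 𝟙 _ := by
    rw [← Scheme.Hom.comp_appTop, hσ, Scheme.Hom.id_appTop]
  simp only [Category.assoc]
  erw [reassoc_of% h1]
  simp

/-- A family of functionals without common zero contains independent ones. -/
theorem exists_surjective_sub {V ι : Type u} [AddCommGroup V] [Module k V] [FiniteDimensional k V]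
    (φ : ι → V →ₗ[k] k) (h : ∀ v, (∀ i, φ i v = 0) → v = 0) {r : ℕ} (hr : r ≤ Module.finrank k V) :
    ∃ c : Fin r → ι, Function.Surjective (LinearMap.pi fun j => φ (c j)) := by
  classical
  obtain ⟨b, hbs, hspan, hli⟩ := exists_linearIndependent k (Set.range φ)
  haveI : Finite b := hli.finite
  haveI := Fintype.ofFinite b
  have hinj : Function.Injective (LinearMap.pi fun j : b => (j.1 : V →ₗ[k] k)) := by
    rw [← LinearMap.ker_eq_bot, Submodule.eq_bot_iff]
    intro v hv
    refine h v fun i => ?_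
    have hle : Submodule.span k b ≤ LinearMap.ker (Module.Dual.eval k V v) :=
      Submodule.span_le.2 fun ψ hψ => congrFun (LinearMap.mem_ker.1 hv) ⟨ψ, hψ⟩
    exact hle (hspan ▸ Submodule.subset_span ⟨i, rfl⟩)
  have hcard := LinearMap.finrank_le_finrank_of_injective hinj
  rw [Module.finrank_fintype_fun_eq_card] at hcard
  let emb : Fin r → b := fun j => (Fintype.equivFin b).symm ⟨j.1, lt_of_lt_of_le j.2 (hr.trans hcard)⟩
  have hemb : Function.Injective emb := fun i j hij =>
    Fin.ext (by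
      have := congrArg Fin.val ((Fintype.equivFin b).symm.injective hij)
      exact this)
  choose c hc using fun j => hbs (emb j).2
  refine ⟨c, LinearMap.dualMap_injective_iff.1 ?_⟩
  rw [← LinearMap.ker_eq_bot, Submodule.eq_bot_iff]
  intro ψ hψ
  have hli' : LinearIndependent k fun j => φ (c j) := by
    simp only [hc]
    exact hli.comp emb hemb
  have hsum : ∑ j, ψ (Pi.single j 1) • φ (c j) = 0 := by
    refine LinearMap.ext fun v => ?_
    have h1 := LinearMap.congr_fun (LinearMap.mem_ker.1 hψ) v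
    rw [LinearMap.dualMap_apply] at h1
    rw [LinearMap.zero_apply] at h1 ⊢
    rw [LinearMap.pi_apply_eq_sum_univ ψ] at h1
    rw [LinearMap.sum_apply]
    convert h1 using 1
    refine Finset.sum_congr rfl fun j _ => ?_
    rw [LinearMap.smul_apply, smul_eq_mul, smul_eq_mul, mul_comm]
    congr 1
    exact congrArg ψ (funext fun l => by simp [Pi.single_apply, eq_comm])
  refine LinearMap.pi_ext fun j x => ?_
  rw [show Pi.single j x = x • (Pi.single j 1 : Fin r → k) from (by ext l; simp [Pi.single_apply]),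
    map_smul, Fintype.linearIndependent_iff.1 hli' _ hsum j, smul_zero, LinearMap.zero_apply]

/-- General points avoid a finite set, are distinct and impose independent conditions. -/
theorem exists_open_indep' [IsAlgClosed k] (E : FunFld.Divisor k X.functionField) {m r : ℕ} (ι : Fin r → Fin m)
    (hι : Function.Injective ι) (hr : r ≤ _root_.FunFld.ell E) {S₀ : Set (CurveRR.CP X)} (hS₀ : S₀.Finite) :
    ∃ U : (SymProd.fibPow (X ↘ Spec (CommRingCat.of k)) m).Opens,
      (∃ x₀ : Spec (CommRingCat.of k) ⟶ SymProd.fibPow (X ↘ Spec (CommRingCat.of k)) m,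
        x₀ ≫ WidePullback.base (fun _ : Fin m => (X ↘ Spec (CommRingCat.of k))) = 𝟙 _ ∧ ∀ p, x₀ p ∈ U) ∧
      ∀ (x : Spec (CommRingCat.of k) ⟶ SymProd.fibPow (X ↘ Spec (CommRingCat.of k)) m)
        (_ : x ≫ WidePullback.base (fun _ : Fin m => (X ↘ Spec (CommRingCat.of k))) = 𝟙 _)
        (_ : ∀ p, x p ∈ U) (P : Fin m → CurveRR.CP X)
        (_ : ∀ i p, (x ≫ WidePullback.π (fun _ : Fin m => (X ↘ Spec (CommRingCat.of k))) i) p = (P i).1),
        (∀ i, P i ∉ S₀) ∧ Function.Injective (fun i => P (ι i)) ∧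
        _root_.FunFld.ell (E - ∑ i : Fin r, Finsupp.single (place k (P (ι i))) 1) = _root_.FunFld.ell E - r := by
  classical
  haveI := Euler.isNoetherian_of_proper (X := X) k
  haveI : JacobsonSpace X := LocallyOfFiniteType.jacobsonSpace (X ↘ Spec (CommRingCat.of k))
  have hfg := CurveRR.isFG k (X := X)
  haveI := FunFld.IsFG.finite_L hfg E
  obtain ⟨U₀, hU₀⟩ := CurveRR.exists_open_avoiding
    (S := {z : CurveRR.CP X | E (place k z) ≠ 0} ∪ S₀)
    (((CurveRR.finite_bad k E 1).subset fun z hz => Or.inl hz).union hS₀)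
  have hη : genericPoint X ∈ U₀ := (hU₀ _).2 fun z _ => z.2
  haveI : Nonempty U₀ := ⟨⟨_, hη⟩⟩
  have hE0 : ∀ z : CurveRR.CP X, z.1 ∈ U₀ → E (place k z) = 0 := fun z hz => by
    by_contra hne
    exact (hU₀ z.1).1 hz z (Or.inl hne) rfl
  choose sec hsec using fun f : _root_.FunFld.L E => CurveRR.exists_section_of_regular k hη (f.1 : X.functionField)
    (fun z hz => (f.2 (place k z)).trans_eq (by rw [hE0 z hz]; simp))
  have hgi : Function.Injective (X.presheaf.germ U₀ (genericPoint X) hη).hom :=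
    germ_injective_of_isIntegral X (genericPoint X) hη
  have hadd : ∀ f g, sec (f + g) = sec f + sec g := fun f g => hgi (by
    rw [map_add]
    exact (hsec _).trans (congrArg₂ (· + ·) (hsec f).symm (hsec g).symm))
  have hsmul : ∀ (c : k) f, sec (c • f) = cU k U₀ c * sec f := fun c f => hgi (by
    rw [map_mul]
    refine (hsec _).trans ?_
    rw [show (↑(c • f) : X.functionField) = algebraMap k X.functionField c * f.1 from Algebra.smul_def c f.1]
    refine congrArg₂ (· * ·) ?_ (hsec f).symm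
    exact (CurveRR.germ_toGlobal k c).symm.trans (TopCat.Presheaf.germ_res_apply X.presheaf _ _ hη _).symm)
  let J := {σ : Spec (CommRingCat.of k) ⟶ X // σ ≫ (X ↘ Spec (CommRingCat.of k)) = 𝟙 _ ∧ ∀ p, σ p ∈ U₀}
  let ev : J → _root_.FunFld.L E →ₗ[k] k := fun σ =>
    { toFun := fun f => eA σ.1 U₀ σ.2.2 (sec f)
      map_add' := fun f g => by rw [hadd, map_add]
      map_smul' := fun c f => by rw [hsmul, map_mul, eA_cU k U₀ σ.1 σ.2.1 σ.2.2]; rfl }
  have hsub : Subsingleton ↥(Spec (CommRingCat.of k)) := inferInstanceAs (Subsingleton (PrimeSpectrum k))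
  have hJ : ∀ y : X, y ∈ closedPoints X → y ∈ U₀ → ∃ σ : J, σ.1 (IsLocalRing.closedPoint k) = y := fun y hy hyU =>
    ⟨⟨pointOfClosedPoint (X ↘ Spec (CommRingCat.of k)) y hy,
      pointOfClosedPoint_comp _ y hy, fun p => by rw [pointOfClosedPoint_apply]; exact hyU⟩,
      pointOfClosedPoint_apply _ _ _ _⟩
  obtain ⟨c, hc⟩ := exists_surjective_sub (V := _root_.FunFld.L E) k ev (fun f hf => by
    have hbot : X.basicOpen (sec f) = ⊥ := by
      by_contra hne
      obtain ⟨y, hy, hy'⟩ := nonempty_inter_closedPoints (Z := (X.basicOpen (sec f) : Set X))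
        (Set.nonempty_iff_ne_empty.2 fun he => hne (Opens.ext he)) (X.basicOpen (sec f)).2.isLocallyClosed
      obtain ⟨σ, hσ⟩ := hJ y hy' (X.basicOpen_le _ hy)
      exact (eA_eq_zero σ.1 U₀ σ.2.2 (sec f)).1 (hf σ) (hσ ▸ hy)
    refine Subtype.ext ?_
    rw [← hsec f, (basicOpen_eq_bot_iff _).1 hbot, map_zero]
    rfl) hr
  choose F hF using fun i : Fin r => hc (Pi.single i 1)
  obtain ⟨σd⟩ : Nonempty J := by
    obtain ⟨y, hy, hy'⟩ := nonempty_inter_closedPoints (Z := (U₀ : Set X)) ⟨_, hη⟩ U₀.2.isLocallyClosed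
    obtain ⟨σ, -⟩ := hJ y hy' hy
    exact ⟨σ⟩
  let π := fun i : Fin m => WidePullback.π (fun _ : Fin m => (X ↘ Spec (CommRingCat.of k))) i
  let W₀ : (SymProd.fibPow (X ↘ Spec (CommRingCat.of k)) m).Opens :=
    ⟨⋂ i : Fin m, (π i) ⁻¹' (U₀ : Set X), isOpen_iInter_of_finite fun i =>
      U₀.2.preimage (π i).continuous⟩
  have hW₀ : ∀ i, W₀ ≤ π (ι i) ⁻¹ᵁ U₀ := fun i p hp => Set.mem_iInter.1 hp (ι i)
  let Mx : Matrix (Fin r) (Fin r) Γ(SymProd.fibPow (X ↘ Spec (CommRingCat.of k)) m, W₀) :=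
    fun i j => (π (ι i)).appLE U₀ W₀ (hW₀ i) (sec (F j))
  let U := (SymProd.fibPow (X ↘ Spec (CommRingCat.of k)) m).basicOpen Mx.det
  have hdet : ∀ (x : Spec (CommRingCat.of k) ⟶ SymProd.fibPow (X ↘ Spec (CommRingCat.of k)) m)
      (hW : ∀ p, x p ∈ W₀), eA x W₀ hW Mx.det =
        (Matrix.det fun i j : Fin r => eA (x ≫ π (ι i)) U₀ (fun p => hW₀ i (hW p)) (sec (F j))) := by
    intro x hW
    rw [RingHom.map_det]
    congr 1
    ext i j
    exact eA_appLE x (π (ι i)) W₀ U₀ (hW₀ i) hW (fun p => hW₀ i (hW p)) _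
  refine ⟨U, ?_, fun x hx hxU P hP => ?_⟩
  · let σ' : Fin m → J := fun i => if h : ∃ j, ι j = i then c h.choose else σd
    have hσ' : ∀ j, σ' (ι j) = c j := fun j => by
      have h : ∃ j', ι j' = ι j := ⟨j, rfl⟩
      simp only [σ', dif_pos h]
      exact congrArg c (hι h.choose_spec)
    let x₀ : Spec (CommRingCat.of k) ⟶ SymProd.fibPow (X ↘ Spec (CommRingCat.of k)) m :=
      WidePullback.lift (𝟙 _) (fun i => (σ' i).1) (fun i => (σ' i).2.1)
    have hxi : ∀ j, x₀ ≫ π (ι j) = (c j).1 := fun j => by rw [← hσ' j]; exact WidePullback.lift_π _ _ _ _ _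
    have hW : ∀ p, x₀ p ∈ W₀ := fun p => Set.mem_iInter.2 fun i => by
      show (x₀ ≫ π i) p ∈ U₀
      rw [show x₀ ≫ π i = (σ' i).1 from WidePullback.lift_π _ _ _ _ _]; exact (σ' i).2.2 p
    refine ⟨x₀, WidePullback.lift_base _ _ _ _, fun p => ?_⟩
    rw [Subsingleton.elim p (IsLocalRing.closedPoint k)]
    refine not_not.1 fun hn => ?_
    have h1 := ((eA_eq_zero x₀ W₀ hW Mx.det).2 hn).symm.trans (hdet x₀ hW)
    rw [show (fun i j : Fin r => eA (x₀ ≫ π (ι i)) U₀ (fun p => hW₀ i (hW p)) (sec (F j))) =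
      (1 : Matrix (Fin r) (Fin r) k) from by
        ext i j
        simp only [hxi]
        exact (congrFun (hF j) i).trans (by simp [Matrix.one_apply, Pi.single_apply]), Matrix.det_one] at h1
    exact zero_ne_one h1
  · have hW : ∀ p, x p ∈ W₀ := fun p =>
      (SymProd.fibPow (X ↘ Spec (CommRingCat.of k)) m).basicOpen_le _ (hxU p)
    let σ : Fin r → J := fun i => ⟨x ≫ π (ι i), by
      rw [Category.assoc, WidePullback.π_arrow]; exact hx, fun p => hW₀ i (hW p)⟩
    let T : Matrix (Fin r) (Fin r) k := fun i j => ev (σ i) (F j)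
    have hT : IsUnit T.det := isUnit_iff_ne_zero.2 fun h0 =>
      (eA_eq_zero x W₀ hW Mx.det).1 ((hdet x hW).trans h0) (hxU _)
    let Φ : _root_.FunFld.L E →ₗ[k] (Fin r → k) := LinearMap.pi fun i => ev (σ i)
    have hΦ : Function.Surjective Φ := fun w => by
      refine ⟨∑ j, (T⁻¹.mulVec w) j • F j, ?_⟩
      have h2 : T.mulVec (T⁻¹.mulVec w) = w := by
        rw [Matrix.mulVec_mulVec, Matrix.mul_nonsing_inv _ hT, Matrix.one_mulVec]
      conv_rhs => rw [← h2]
      ext i
      rw [LinearMap.pi_apply, map_sum, Matrix.mulVec, dotProduct]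
      refine Finset.sum_congr rfl fun j _ => ?_
      rw [map_smul, smul_eq_mul, mul_comm]
    have hPinj : Function.Injective fun i => P (ι i) := fun i j hij => by
      by_contra hne
      have hpt : σ i = σ j := Subtype.ext (AlgebraicGeometry.ext_of_apply_closedPoint_eq
        (X ↘ Spec (CommRingCat.of k)) (σ i).2.1 (σ j).2.1
        ((hP (ι i) _).trans ((congrArg Subtype.val hij).trans (hP (ι j) _).symm)))
      exact not_isUnit_zero ((Matrix.det_zero_of_row_eq hne (funext fun l => by simp only [T, hpt]) : T.det = 0) ▸ hT)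
    set S : FunFld.Divisor k X.functionField := ∑ i : Fin r, Finsupp.single (place k (P (ι i))) 1 with hS
    have hS1 : ∀ i, S (place k (P (ι i))) = 1 := fun i => by
      rw [hS, Finsupp.finsetSum_apply, Finset.sum_eq_single i (fun j _ hj =>
        Finsupp.single_eq_of_ne fun h => hj (hPinj (CurveRR.place_injective (k := k) h).symm)) (by simp),
        Finsupp.single_eq_same]
    have hS0 : ∀ R, (∀ i, R ≠ place k (P (ι i))) → S R = 0 := fun R hR => by
      rw [hS, Finsupp.finsetSum_apply]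
      exact Finset.sum_eq_zero fun i _ => Finsupp.single_eq_of_ne (hR i)
    have hSpos : 0 ≤ S := Finset.sum_nonneg fun i _ => Finsupp.single_nonneg.2 zero_le_one
    have hker : (LinearMap.ker Φ).map (_root_.FunFld.L E).subtype = _root_.FunFld.L (E - S) := by
      have key : ∀ (f : _root_.FunFld.L E) i, f.1 ≠ 0 →
          (ev (σ i) f = 0 ↔ 1 ≤ (place k (P (ι i))).ord f.1) := fun f i hf0 => by
        have hPU : (P (ι i)).1 ∈ U₀ := hP (ι i) (IsLocalRing.closedPoint k) ▸ (σ i).2.2 _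
        have h3 : (place k (P (ι i))).1 f.1 < 1 ↔ (P (ι i)).1 ∉ X.basicOpen (sec f) := by
          rw [← hsec f, CurveRR.germ_generic hPU, CurveRR.place_lt_one_iff, IsLocalRing.mem_maximalIdeal,
            mem_nonunits_iff, Scheme.mem_basicOpen _ _ _ hPU]
        rw [show (ev (σ i) f = 0) ↔ eA (σ i).1 U₀ (σ i).2.2 (sec f) = 0 from Iff.rfl, eA_eq_zero,
          show (σ i).1 (IsLocalRing.closedPoint k) = (P (ι i)).1 from hP (ι i) _, ← h3, FunFld.val_eq _ hf0,
          ← exp_zero, exp_lt_exp]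
        omega
      ext z
      constructor
      · rintro ⟨f, hf, rfl⟩
        show f.1 ∈ _root_.FunFld.L (E - S)
        rcases eq_or_ne f.1 0 with h0 | h0
        · rw [h0]; exact Submodule.zero_mem _
        rw [FunFld.mem_L_iff_ord h0]
        intro R
        have hR := (FunFld.mem_L_iff_ord h0).1 f.2 R
        rw [Finsupp.sub_apply]
        by_cases hex : ∃ i, R = place k (P (ι i))
        · obtain ⟨i, rfl⟩ := hex
          have h4 := (key f i h0).1 (congrFun (LinearMap.mem_ker.1 hf) i)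
          have h5 := hE0 (P (ι i)) (hP (ι i) (IsLocalRing.closedPoint k) ▸ (σ i).2.2 _)
          rw [hS1, h5] at *
          omega
        · rw [hS0 R fun i h => hex ⟨i, h⟩]; omega
      · intro hz
        have hzE : z ∈ _root_.FunFld.L E := FunFld.L_mono (sub_le_self _ hSpos) hz
        refine ⟨⟨z, hzE⟩, LinearMap.mem_ker.2 (funext fun i => ?_), rfl⟩
        rcases eq_or_ne z 0 with rfl | h0
        · exact map_zero (ev (σ i))
        refine (key ⟨z, hzE⟩ i h0).2 ?_
        have hR := (FunFld.mem_L_iff_ord h0).1 hz (place k (P (ι i)))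
        have h5 := hE0 (P (ι i)) (hP (ι i) (IsLocalRing.closedPoint k) ▸ (σ i).2.2 _)
        rw [Finsupp.sub_apply, hS1, h5] at hR
        show 1 ≤ (place k (P (ι i))).ord z
        omega
    have hrn := LinearMap.finrank_range_add_finrank_ker Φ
    rw [LinearMap.range_eq_top.2 hΦ, finrank_top, Module.finrank_fin_fun] at hrn
    have h6 : _root_.FunFld.ell (E - S) = Module.finrank k (LinearMap.ker Φ) := by
      rw [← Submodule.finrank_map_subtype_eq, hker]; rfl
    refine ⟨fun i hi => ?_, hPinj, ?_⟩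
    · exact (hU₀ _).1 (hP i (IsLocalRing.closedPoint k) ▸ Set.mem_iInter.1 (hW _) i) _ (Or.inr hi) rfl
    rw [h6, show _root_.FunFld.ell E = Module.finrank k (_root_.FunFld.L E) from rfl]
    omega

/-- General points impose independent conditions. -/
theorem exists_open_indep [IsAlgClosed k] (E : FunFld.Divisor k X.functionField) {m r : ℕ} (ι : Fin r → Fin m)
    (hι : Function.Injective ι) (hr : r ≤ _root_.FunFld.ell E) :
    ∃ U : (SymProd.fibPow (X ↘ Spec (CommRingCat.of k)) m).Opens,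
      (U : Set ↥(SymProd.fibPow (X ↘ Spec (CommRingCat.of k)) m)).Nonempty ∧
      ∀ (x : Spec (CommRingCat.of k) ⟶ SymProd.fibPow (X ↘ Spec (CommRingCat.of k)) m)
        (_ : x ≫ WidePullback.base (fun _ : Fin m => (X ↘ Spec (CommRingCat.of k))) = 𝟙 _)
        (_ : ∀ p, x p ∈ U) (P : Fin m → CurveRR.CP X)
        (_ : ∀ i p, (x ≫ WidePullback.π (fun _ : Fin m => (X ↘ Spec (CommRingCat.of k))) i) p = (P i).1),
        _root_.FunFld.ell (E - ∑ i : Fin r, Finsupp.single (place k (P (ι i))) 1) = _root_.FunFld.ell E - r := by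
  obtain ⟨U, ⟨x₀, -, hx₀⟩, hU⟩ := exists_open_indep' k E ι hι hr Set.finite_empty
  exact ⟨U, ⟨x₀ (IsLocalRing.closedPoint k), hx₀ _⟩, fun x hx hxU P hP => (hU x hx hxU P hP).2.2⟩

end GrothLib.CurveBase26
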