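import Groth.Agent.Lib.CurveBase26.GenPts
import Groth.Prelude.Def_FGA

/-!
# `h⁰` of twists by rational points
-/

set_option autoImplicit false
set_option linter.style.haveILetI false
set_option backward.isDefEq.respectTransparency false
set_option maxHeartbeats 800000
set_option synthInstance.maxHeartbeats 200000

universe u

open CategoryTheory CategoryTheory.Limits AlgebraicGeometry TopologicalSpace
open GrothLib.CurveRR (place oD)
open GrothLib.CurveMult

noncomputable section

namespace GrothLib.CurveBase26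

variable (k : Type u) [Field k] {X : Scheme.{u}} [IsIntegral X] [CurveRR.RegCurve X]
  [X.Over (Spec (CommRingCat.of k))] [IsProper (X ↘ Spec (CommRingCat.of k))]

theorem nonempty_tensorList_oD : ∀ {n : ℕ} (f : Fin n → X.Modules) (D : Fin n → FunFld.Divisor k X.functionField),
    (∀ i, Nonempty (f i ≅ oD k (D i))) → Nonempty (FGA.tensorList (List.ofFn f) ≅ oD k (∑ i, D i))
  | 0, f, D, _ => by
    rw [List.ofFn_zero, Fintype.sum_empty]
    exact CurveRR.nonempty_iso_oD_zero k
  | n + 1, f, D, h => by
    rw [List.ofFn_succ, Fin.sum_univ_succ]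
    obtain ⟨e⟩ := nonempty_tensorList_oD (fun i => f i.succ) (fun i => D i.succ) fun i => h i.succ
    obtain ⟨e0⟩ := h 0
    exact CurveRR.nonempty_tensor_iso k e0 e

/-- An invertible module is determined by a twist identification. -/
theorem finrank_H0_of_tensor {M A B : X.Modules} (hM : PicF.IsInvertible M)
    {DA DB : FunFld.Divisor k X.functionField} (eA : A ≅ oD k DA) (eB : B ≅ oD k DB)
    (h : Nonempty (CohB1.tensorMod M A ≅ B)) :
    Module.finrank k (Coh.HH X M 0) = _root_.FunFld.ell (DB - DA) := by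
  haveI := Euler.isNoetherian_of_proper (X := X) k
  obtain ⟨D', ⟨eD'⟩⟩ := CurveRR.exists_iso_oD k hM
  obtain ⟨eT⟩ := CurveRR.nonempty_tensor_iso k eD' eA
  obtain ⟨e⟩ := h
  have hprin := DivIso.sub_mem_of_iso k (eT.symm ≪≫ e ≪≫ eB)
  obtain ⟨eM⟩ := DivIso.nonempty_iso_of_sub_mem k (D := D') (E := DB - DA)
    (by rwa [show D' - (DB - DA) = D' + DA - DB by abel])
  rw [(Euler.hhEquiv (A := k) (eD' ≪≫ eM) 0).finrank_eq, CurveRR.finrank_H0_oD]

end GrothLib.CurveBase26
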