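import Groth.Agent.Lib.CurveMult.NormalRat
import Groth.Agent.Lib.CurveMult.IdealDiv
import Groth.Agent.Lib.RatGeneral28.Main
import Groth.Agent.Lib.CurveMult.HyperAff

/-!
# Base points of the residual linear system
-/

set_option autoImplicit false
set_option linter.style.haveILetI false
set_option backward.isDefEq.respectTransparency false
set_option maxHeartbeats 1600000

universe u

open CategoryTheory CategoryTheory.Limits AlgebraicGeometry TopologicalSpace
open GrothLib.CurveRR (place oD)
open GrothLib.CurveMult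

noncomputable section

namespace GrothLib.CurveBase26

variable (k : Type u) [Field k] {X : Scheme.{u}} [IsIntegral X] [CurveRR.RegCurve X]
  [X.Over (Spec (CommRingCat.of k))] [IsProper (X ↘ Spec (CommRingCat.of k))]

theorem exists_point (hC : topologicalKrullDim X = 1) (s : Spec (CommRingCat.of k) ⟶ X)
    (hs : s ≫ (X ↘ Spec (CommRingCat.of k)) = 𝟙 _) :
    ∃ P : CurveRR.CP X, (∀ p, s p = P.1) ∧ (place k P).deg = 1 ∧
      Nonempty (ClSub.idealMod s.ker ≅ oD k (-(Finsupp.single (place k P) 1 : FunFld.Divisor k X.functionField))) := by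
  haveI := Euler.isNoetherian_of_proper (X := X) k
  haveI : Subsingleton ↥(Spec (CommRingCat.of k)) := inferInstanceAs (Subsingleton (PrimeSpectrum k))
  let o : ↥(Spec (CommRingCat.of k)) := IsLocalRing.closedPoint k
  haveI : IsClosedImmersion (s ≫ (X ↘ Spec (CommRingCat.of k))) := by rw [hs]; infer_instance
  haveI : IsClosedImmersion s := .of_comp s (X ↘ Spec (CommRingCat.of k))
  have hcl : IsClosed ({s o} : Set X) := by
    have := s.isClosedEmbedding.isClosedMap _ (isClosed_discrete {o})
    rwa [Set.image_singleton] at this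
  have hne : s o ≠ genericPoint X := fun h => CurvePoints.genericPoint_not_isClosed hC (h ▸ hcl)
  refine ⟨⟨s o, hne⟩, fun p => congrArg s (Subsingleton.elim p o), ?_, ?_⟩
  · letI := (GrothLib.AffDom.toRes (X ↘ Spec (CommRingCat.of k)) (s o)).toAlgebra
    rw [CurveRR.deg_place k ⟨s o, hne⟩, Zeta.residueDegree_eq_finrank]
    have hb := bijective_resMap_of_section k s hs o
    have e : k ≃ₗ[k] (X.residueField (s o) : Type u) := LinearEquiv.ofBijective (Algebra.linearMap k _) (by
      show Function.Bijective (GrothLib.AffDom.toRes (X ↘ Spec (CommRingCat.of k)) (s o))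
      rw [CurveRR.toRes_eq]
      exact hb)
    rw [← e.finrank_eq, Module.finrank_self]
  · obtain ⟨e⟩ := CurveRR.nonempty_idealMod_point_iso k ⟨s o, hne⟩ hcl
    have hk : s.ker = Scheme.IdealSheafData.vanishingIdeal (⟨{s o}, hcl⟩ : Closeds X) := by
      rw [SchImage.ker_eq_vanishingIdeal]
      congr 1
      refine Closeds.ext ?_
      change closure (Set.range s) = {s o}
      rw [Set.range_eq_singleton fun a => congrArg s (Subsingleton.elim a o), hcl.closure_eq]
    exact ⟨eqToIso (congrArg ClSub.idealMod hk) ≪≫ e⟩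

/-- Off the base points of the residual series a rational point drops `h¹` by one. -/
theorem exists_open (hdim : topologicalKrullDim X = 1)
    (h0 : Module.finrank k (Coh.HH X (Coh.structureModule X) 0) = 1) {L : X.Modules} (hL : PicF.IsInvertible L)
    (hL1 : 0 < Module.finrank k (Coh.HH X L 1)) :
    ∃ U : X.Opens, (U : Set X).Nonempty ∧
      ∀ (σ : Spec (CommRingCat.of k) ⟶ X) (_ : σ ≫ (X ↘ Spec (CommRingCat.of k)) = 𝟙 _) (M : X.Modules)
        (_ : PicF.IsInvertible M) (_ : Nonempty (CohB1.tensorMod M (ClSub.idealMod σ.ker) ≅ L)),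
        ((∀ p, σ.base p ∈ U) → Module.finrank k (Coh.HH X M 1) = Module.finrank k (Coh.HH X L 1) - 1) ∧
        ((∀ p, σ.base p ∉ U) → Module.finrank k (Coh.HH X M 1) = Module.finrank k (Coh.HH X L 1)) := by
  classical
  haveI := Euler.isNoetherian_of_proper (X := X) k
  have hK := CurveRR.isFunctionField k h0
  have hfg : FunFld.IsFG k X.functionField := CurveRR.isFG k
  obtain ⟨C, hC⟩ := FunFld.exists_isCanonical hK
  obtain ⟨D, ⟨eD⟩, -, -, hD1⟩ := CurveRR.exists_divisor k h0 hC hL
  set E := C - D with hE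
  haveI := FunFld.IsFG.finite_L hfg E
  obtain ⟨f₀, hf₀, hf₀0⟩ := Submodule.exists_mem_ne_zero_of_ne_bot (p := _root_.FunFld.L E) (by
    intro hb; rw [hD1, _root_.FunFld.ell, hb, finrank_bot] at hL1; omega)
  let B : Set (CurveRR.CP X) := {P | ∀ f ∈ _root_.FunFld.L E, f ≠ 0 →
    E (place k P) + (place k P).ord f ≠ 0}
  have hBfin : B.Finite := by
    refine Set.Finite.subset ((E + _root_.FunFld.div k f₀).support.finite_toSet.preimage
      (CurveRR.place_injective (k := k)).injOn) fun P hP => ?_
    show place k P ∈ ((E + _root_.FunFld.div k f₀).support : Set _)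
    rw [Finset.mem_coe, Finsupp.mem_support_iff, Finsupp.add_apply, FunFld.IsFG.div_apply hfg]
    exact hP f₀ hf₀ hf₀0
  let Z : Set X := ⋃ P ∈ B, ({P.1} : Set X)
  have hZ : IsClosed Z := hBfin.isClosed_biUnion fun P _ => (CurveRR.isClosed_iff_ne_genericPoint k P.1).2 P.2
  refine ⟨⟨Zᶜ, hZ.isOpen_compl⟩, ⟨genericPoint X, fun hm => ?_⟩, fun σ hσ M hM hML => ?_⟩
  · obtain ⟨P, -, hP⟩ := Set.mem_iUnion₂.1 hm
    exact P.2 hP.symm
  obtain ⟨P, hpt, hdeg, ⟨eP⟩⟩ := exists_point k hdim σ hσ
  obtain ⟨D', ⟨eD'⟩, -, -, hM1⟩ := CurveRR.exists_divisor k h0 hC hM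
  obtain ⟨eT⟩ := CurveRR.nonempty_tensor_iso k eD' eP
  obtain ⟨eML⟩ := hML
  have hprin := DivIso.sub_mem_of_iso k (eT.symm ≪≫ eML ≪≫ eD)
  obtain ⟨eM⟩ := DivIso.nonempty_iso_of_sub_mem k (D := D') (E := D + Finsupp.single (place k P) 1)
    (by rwa [show D' - (D + Finsupp.single (place k P) 1) = D' + -Finsupp.single (place k P) 1 - D by abel])
  have hM1' : Module.finrank k (Coh.HH X M 1) = _root_.FunFld.ell (E - Finsupp.single (place k P) 1) := by
    rw [(Euler.hhEquiv (A := k) (eD' ≪≫ eM) 1).finrank_eq, CurveRR.finrank_H1_oD k hK hC,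
      show C - (D + Finsupp.single (place k P) 1) = E - Finsupp.single (place k P) 1 by rw [hE]; abel]
  rw [hM1', hD1]
  have hle : E - Finsupp.single (place k P) 1 ≤ E := sub_le_self _ (Finsupp.single_nonneg.2 zero_le_one)
  have h1 := FunFld.IsFG.ell_sub_ell_le hfg hle
  rw [FunFld.deg_sub E, FunFld.deg_single, hdeg] at h1
  refine ⟨fun hU => ?_, fun hU => ?_⟩
  · have hPB : P ∉ B := fun hP => hU (IsLocalRing.closedPoint k)
      (Set.mem_iUnion₂.2 ⟨P, hP, hpt _⟩)
    obtain ⟨f, hfE, hf0, hford⟩ : ∃ f ∈ _root_.FunFld.L E, f ≠ 0 ∧ E (place k P) + (place k P).ord f = 0 := by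
      by_contra hcon
      push Not at hcon
      exact hPB hcon
    have hlt : _root_.FunFld.ell (E - Finsupp.single (place k P) 1) < _root_.FunFld.ell E := by
      refine Submodule.finrank_lt_finrank_of_lt (lt_of_le_of_ne (FunFld.L_mono hle) fun heq => ?_)
      have h2 : f ∈ _root_.FunFld.L (E - Finsupp.single (place k P) 1) := heq ▸ hfE
      have h3 := (FunFld.mem_L_iff_ord hf0).1 h2 (place k P)
      rw [Finsupp.sub_apply, Finsupp.single_eq_same] at h3
      omega
    omega
  · have hPB : P ∈ B := by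
      by_contra hP
      refine hU (IsLocalRing.closedPoint k) fun hm => ?_
      obtain ⟨Q, hQ, hQe⟩ := Set.mem_iUnion₂.1 hm
      obtain rfl : P = Q := Subtype.ext ((hpt _).symm.trans hQe)
      exact hP hQ
    haveI := FunFld.IsFG.finite_L hfg (E - Finsupp.single (place k P) 1)
    refine le_antisymm (Submodule.finrank_mono (FunFld.L_mono hle))
      (Submodule.finrank_mono (t := _root_.FunFld.L (E - Finsupp.single (place k P) 1)) fun f hf => ?_)
    rcases eq_or_ne f 0 with rfl | hf0
    · exact Submodule.zero_mem _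
    rw [FunFld.mem_L_iff_ord hf0]
    intro R
    have h2 := (FunFld.mem_L_iff_ord hf0).1 hf R
    rcases eq_or_ne R (place k P) with rfl | hne
    · have h3 := hPB f hf hf0
      rw [Finsupp.sub_apply, Finsupp.single_eq_same]
      omega
    · rw [Finsupp.sub_apply, Finsupp.single_eq_of_ne hne, sub_zero]
      exact h2

end GrothLib.CurveBase26
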